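import Groth.Agent.Lib.FlatBC10.Global
import Groth.Agent.Lib.RelAmple18.Generated
import Groth.Agent.Lib.CBC10.Local
import Groth.Agent.Lib.Ample18.Avoid
import Mathlib.AlgebraicGeometry.Stalk
import Mathlib.RingTheory.Localization.AtPrime.Basic

/-!
# Global generation spreads out from the local scheme of a point of the base
-/

set_option autoImplicit false
set_option linter.style.haveILetI false
set_option linter.unusedSectionVars false
set_option maxHeartbeats 1000000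

universe u

open CategoryTheory CategoryTheory.Limits AlgebraicGeometry TopologicalSpace Opposite TensorProduct
open Groth.Agent.CBC10

noncomputable section

namespace Groth.Agent.GGSpread10

open Groth.Agent.Amp (Gen gm gval)

theorem not_gen_smul {X : Scheme.{u}} {M : X.Modules} (hM : PicF.IsInvertible M) {x : X}
    {a : (M.presheaf.stalk x : Type u)} (ha : ¬ Gen a) (c : X.presheaf.stalk x) : ¬ Gen (c • a) := by
  obtain ⟨g, hg⟩ := Amp.exists_stalk_gen hM x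
  obtain ⟨d, hd⟩ := hg.2 a
  change d • g = a at hd
  subst hd
  rw [hg.ne_zero_smul] at ha
  rw [← mul_smul, hg.ne_zero_smul, IsUnit.mul_iff]
  exact fun h => ha h.2

theorem not_gen_add {X : Scheme.{u}} {M : X.Modules} (hM : PicF.IsInvertible M) {x : X}
    {a b : (M.presheaf.stalk x : Type u)} (ha : ¬ Gen a) (hb : ¬ Gen b) : ¬ Gen (a + b) := by
  obtain ⟨g, hg⟩ := Amp.exists_stalk_gen hM x
  obtain ⟨c, hc⟩ := hg.2 a
  obtain ⟨d, hd⟩ := hg.2 b
  change c • g = a at hc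
  change d • g = b at hd
  subst hc hd
  rw [hg.ne_zero_smul] at ha hb
  rw [← add_smul, hg.ne_zero_smul]
  exact fun h => (IsLocalRing.isUnit_or_isUnit_of_isUnit_add h).elim ha hb

variable {A B : Type u} [CommRing A] [CommRing B] [Algebra A B] {X X' : Scheme.{u}}
  [X.Over (Spec (CommRingCat.of A))] [X'.Over (Spec (CommRingCat.of B))] [X'.Over (Spec (CommRingCat.of A))]

attribute [local instance] secA

/-- A section of the pullback generating at a point comes from one generating at its image. -/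
theorem exists_gen_of_gen_pullback {g : X' ⟶ X} (h : Sq (A := A) (B := B) g) [IsAffineHom g] [Module.Flat A B]
    [CompactSpace X] [QuasiSeparatedSpace X] {M : X.Modules} (hM : PicF.IsInvertible M) (x' : X')
    (t : Γ((Scheme.Modules.pullback g).obj M, g ⁻¹ᵁ ⊤)) (ht : Gen (gm _ x' (U := g ⁻¹ᵁ ⊤) trivial t)) :
    ∃ s : Γ(M, ⊤), Gen (gm M (g x') (U := ⊤) trivial s) := by
  by_contra hc
  push Not at hc
  obtain ⟨x, hx⟩ := (FlatBC10.secQ_injective h M ⊤).2 t
  obtain ⟨z, rfl⟩ := (FlatBC10.bijective_of_isCompact h M (Twist.isQCoh_of_isInvertible hM) (U := ⊤) isCompact_univ 0).2 x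
  rw [FlatBC10.hc0_φ] at hx
  have key : ∀ w : Γ(M, ⊤) ⊗[A] B, ¬ Gen (gm ((Scheme.Modules.pullback g).obj M) x' (U := g ⁻¹ᵁ ⊤) trivial
      (chi h M (le_refl (g ⁻¹ᵁ ⊤)) w)) := by
    intro w
    induction w using TensorProduct.induction_on with
    | zero =>
      rw [map_zero, show gm ((Scheme.Modules.pullback g).obj M) x' (U := g ⁻¹ᵁ ⊤) trivial 0 = 0 from map_zero _]
      exact Amp.not_gen_zero (PicLoc.isInvertible_pullback g hM) x'
    | add a b ha hb =>
      rw [map_add, show gm ((Scheme.Modules.pullback g).obj M) x' (U := g ⁻¹ᵁ ⊤) trivial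
        (chi h M (le_refl (g ⁻¹ᵁ ⊤)) a + chi h M (le_refl (g ⁻¹ᵁ ⊤)) b) = _ + _ from map_add _ _ _]
      exact not_gen_add (PicLoc.isInvertible_pullback g hM) ha hb
    | tmul s b =>
      rw [chi_tmul, show gm ((Scheme.Modules.pullback g).obj M) x' (U := g ⁻¹ᵁ ⊤) trivial
        (ρ B (g ⁻¹ᵁ ⊤) b • eta g M (le_refl (g ⁻¹ᵁ ⊤)) s) = _ • _ from M1.germ_smul _ (U := g ⁻¹ᵁ ⊤) (x := x') trivial _ _]
      refine not_gen_smul (PicLoc.isInvertible_pullback g hM) (fun hg => ?_) _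
      refine hc s ((Amp.gen_pullSec_iff g hM (U := ⊤) (y := x') trivial s).1 ?_)
      have e : eta g M (le_refl (g ⁻¹ᵁ ⊤)) s = M2.pullSec g M s :=
        M1.mres_id _ _ _
      rwa [← e]
  exact key _ (by rw [hx]; exact ht)

/-- The spreading statement on an affine open of the base. -/
theorem exists_open_nhd {X Y : Scheme.{u}} (f : X ⟶ Y) [QuasiCompact f] [QuasiSeparated f]
    (hcl : IsClosedMap f) (L : X.Modules) (hL : PicF.IsInvertible L) (y : Y)
    (h : Curv2.IsGloballyGenerated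
      ((Scheme.Modules.pullback (pullback.fst f (Y.fromSpecStalk y))).obj L)) :
    ∃ V : Y.Opens, y ∈ V ∧ Curv2.IsGloballyGenerated (L.restrict (f ⁻¹ᵁ V).ι) := by
  classical
  obtain ⟨W, hW, hyW, -⟩ := exists_isAffineOpen_mem_and_subset (X := Y) (x := y) (U := ⊤) trivial
  letI := overU f hW
  letI := TopCat.Presheaf.algebra_section_stalk Y.presheaf (⟨y, hyW⟩ : W)
  haveI := hW.isLocalization_stalk ⟨y, hyW⟩
  haveI : Module.Flat Γ(Y, W) (Y.presheaf.stalk y) :=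
    IsLocalization.flat _ (hW.primeIdealOf ⟨y, hyW⟩).asIdeal.primeCompl
  let X₀ : Scheme.{u} := (f ⁻¹ᵁ W : X.Opens)
  haveI : QuasiCompact (X₀ ↘ Spec (CommRingCat.of Γ(Y, W))) :=
    inferInstanceAs (QuasiCompact (f ∣_ W ≫ hW.isoSpec.hom))
  haveI : QuasiSeparated (X₀ ↘ Spec (CommRingCat.of Γ(Y, W))) :=
    inferInstanceAs (QuasiSeparated (f ∣_ W ≫ hW.isoSpec.hom))
  haveI : CompactSpace X₀ := QuasiCompact.compactSpace_of_compactSpace (X₀ ↘ Spec (CommRingCat.of Γ(Y, W)))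
  haveI : QuasiSeparatedSpace X₀ := quasiSeparatedSpace_of_quasiSeparated (X₀ ↘ Spec (CommRingCat.of Γ(Y, W)))
  let X₁ := pullback f (Y.fromSpecStalk y)
  letI : X₁.Over (Spec (CommRingCat.of (Y.presheaf.stalk y))) := ⟨pullback.snd f (Y.fromSpecStalk y)⟩
  let φ := Spec.map (CommRingCat.ofHom (algebraMap Γ(Y, W) (Y.presheaf.stalk y)))
  letI : X₁.Over (Spec (CommRingCat.of Γ(Y, W))) := ⟨pullback.snd f (Y.fromSpecStalk y) ≫ φ⟩
  have H := isPullback_overU f hW
  have hφ : Y.fromSpecStalk y = φ ≫ hW.fromSpec := by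
    rw [← hW.fromSpecStalk_eq_fromSpecStalk hyW]
    rfl
  have hsq : IsPullback (pullback.fst f (Y.fromSpecStalk y)) (X₁ ↘ Spec (CommRingCat.of (Y.presheaf.stalk y))) f
      (Y.fromSpecStalk y) := IsPullback.of_hasPullback _ _
  let g : X₁ ⟶ X₀ := H.lift (pullback.fst f (Y.fromSpecStalk y))
    ((X₁ ↘ Spec (CommRingCat.of (Y.presheaf.stalk y))) ≫ φ) (hsq.w.trans ((congrArg (_ ≫ ·) hφ).trans (Category.assoc _ _ _).symm))
  have h1 : g ≫ (f ⁻¹ᵁ W).ι = pullback.fst f (Y.fromSpecStalk y) := H.lift_fst _ _ _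
  have h2 : g ≫ (X₀ ↘ Spec (CommRingCat.of Γ(Y, W))) =
      (X₁ ↘ Spec (CommRingCat.of (Y.presheaf.stalk y))) ≫ φ := H.lift_snd _ _ _
  have hg : Sq (A := Γ(Y, W)) (B := Y.presheaf.stalk y) g :=
    ⟨IsPullback.of_right (hφ ▸ h1.symm ▸ hsq) h2 H, rfl⟩
  haveI : IsAffineHom g := CBC10.affine_of_sq hg
  let M := (Scheme.Modules.pullback (f ⁻¹ᵁ W).ι).obj L
  have hM : PicF.IsInvertible M := PicLoc.isInvertible_pullback _ hL
  let i : (Scheme.Modules.pullback g).obj M ≅ (Scheme.Modules.pullback (pullback.fst f (Y.fromSpecStalk y))).obj L :=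
    (Scheme.Modules.pullbackComp g (f ⁻¹ᵁ W).ι).app L ≪≫ (Scheme.Modules.pullbackCongr h1).app L
  let U : X.Opens := ⨆ s : Γ(M, ⊤), (f ⁻¹ᵁ W).ι ''ᵁ CohB1.genLocus M (M1.secHom s)
  have hyU : ∀ x : X, f x = y → x ∈ U := fun x hx => by
    obtain ⟨z, hz⟩ : x ∈ Set.range (pullback.fst f (Y.fromSpecStalk y)).base := by
      rw [Scheme.Pullback.range_fst]
      exact ⟨IsLocalRing.closedPoint (Y.presheaf.stalk y), (Scheme.fromSpecStalk_closedPoint).trans hx.symm⟩
    obtain ⟨t, ht⟩ := RA.exists_gen_of_isGloballyGenerated (PicLoc.isInvertible_pullback _ hL) h z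
    have ht' : z ∈ CohB1.genLocus _ (t ≫ i.inv) := by
      rw [show t ≫ i.inv = t ≫ i.symm.hom from rfl, Amp.genLocus_comp_iso]
      exact ht
    obtain ⟨s, hs⟩ := exists_gen_of_gen_pullback hg hM z _
      ((Amp.mem_genLocus_iff (PicLoc.isInvertible_pullback g hM) _).1 ht')
    refine Opens.mem_iSup.2 ⟨s, g z, (Amp.mem_genLocus_iff hM _).2 (by rwa [Amp.gval_secHom]), ?_⟩
    change (g ≫ (f ⁻¹ᵁ W).ι) z = x
    rw [h1]
    exact hz
  let V : Y.Opens := W ⊓ ⟨(f '' (U : Set X)ᶜ)ᶜ, (hcl _ U.isOpen.isClosed_compl).isOpen_compl⟩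
  have hyV : y ∈ V := ⟨hyW, fun ⟨x, hx, hxy⟩ => hx (hyU x hxy)⟩
  refine ⟨V, hyV, ?_⟩
  have hle : f ⁻¹ᵁ V ≤ f ⁻¹ᵁ W := fun x hx => hx.1
  let j := X.homOfLE hle
  let iV : L.restrict (f ⁻¹ᵁ V).ι ≅ (Scheme.Modules.pullback j).obj M :=
    (Scheme.Modules.restrictFunctorIsoPullback (f ⁻¹ᵁ V).ι).app L ≪≫
      (Scheme.Modules.pullbackCongr (X.homOfLE_ι hle).symm).app L ≪≫
      ((Scheme.Modules.pullbackComp j (f ⁻¹ᵁ W).ι).app L).symm
  obtain ⟨κ, p, hp⟩ := RA.isGloballyGenerated_of_gen (PicLoc.isInvertible_pullback j hM) fun x => by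
    have hxU : x.1 ∈ U := by
      by_contra hn
      exact x.2.2 ⟨x.1, hn, rfl⟩
    obtain ⟨s, w, hw, hwx⟩ := Opens.mem_iSup.1 hxU
    have hjx : j x = w := (f ⁻¹ᵁ W).ι.injective ((congrArg (fun q : ((f ⁻¹ᵁ V : X.Opens) : Scheme.{u}) ⟶ X => q x)
      (X.homOfLE_ι hle)).trans hwx.symm)
    subst hjx
    refine ⟨M1.secHom (M2.pullSec j M s), (Amp.mem_genLocus_iff (PicLoc.isInvertible_pullback j hM) _).2 ?_⟩
    refine (congrArg (fun t => Gen (gm ((Scheme.Modules.pullback j).obj M) x (U := ⊤) trivial t))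
      (Amp.gval_secHom (M := (Scheme.Modules.pullback j).obj M) (M2.pullSec j M s))).mpr ?_
    refine (Amp.gen_pullSec_iff j hM (U := ⊤) (y := x) trivial s).2 ?_
    have := (Amp.mem_genLocus_iff hM _).1 hw
    rwa [Amp.gval_secHom] at this
  haveI : Epi p := hp
  exact ⟨κ, p ≫ iV.inv, epi_comp' hp (IsIso.epi_of_iso iV.inv)⟩

end Groth.Agent.GGSpread10
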